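import Groth.Agent.ReducedDivLib.Main
import Groth.Agent.CatLib.Basic

/-!
# Reduced principal divisors on two-dimensional normal local domains
-/

set_option autoImplicit false

universe u

open IsLocalRing

namespace ReducedDivTwoLib

variable {R : Type u} [CommRing R] [IsDomain R] [IsNoetherianRing R]

theorem isCatenary_of_dim_le_two (h : ringKrullDim R ≤ 2) : CAlg.IsCatenary R := by
  refine CatLib.isCatenary_of_height fun q r hqr => ?_
  have hlt := Ideal.height_strict_mono_of_isPrime_of_isPrime (I := q.asIdeal) (J := r.asIdeal) hqr.lt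
  have hr2 : r.asIdeal.height ≤ 2 := by
    have := Ideal.height_le_ringKrullDim_of_ne_top r.2.ne_top
    exact WithBot.coe_le_coe.1 (this.trans h)
  obtain ⟨n, hn⟩ := ENat.ne_top_iff_exists.1 (Ideal.height_ne_top r.2.ne_top : r.asIdeal.height ≠ ⊤)
  obtain ⟨k, hk⟩ := ENat.ne_top_iff_exists.1 (Ideal.height_ne_top q.2.ne_top : q.asIdeal.height ≠ ⊤)
  rw [← hn, ← hk] at hlt ⊢
  rw [← hn] at hr2
  norm_cast at hlt hr2 ⊢
  by_contra hne
  obtain ⟨s, hs, hlen⟩ := Order.exists_series_of_le_height r (n := 2) (by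
    rw [← PrimeSpectrum.height_eq_orderHeight, ← hn]
    exact_mod_cast (by omega : 2 ≤ n))
  have hq0 : q.asIdeal = ⊥ := by
    have h2 := Ideal.height_eq_zero_iff.1 (show q.asIdeal.height = 0 by rw [← hk]; exact_mod_cast (by omega : k = 0))
    exact le_bot_iff.1 (h2.2 ⟨Ideal.isPrime_bot, le_rfl⟩ bot_le)
  have hqm : q < s ⟨1, by omega⟩ :=
    lt_of_le_of_lt (show q ≤ s ⟨0, by omega⟩ from show q.asIdeal ≤ _ by rw [hq0]; exact bot_le)
      (s.strictMono (show (⟨0, by omega⟩ : Fin (s.length + 1)) < ⟨1, by omega⟩ from Nat.zero_lt_one))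
  have hmr : s ⟨1, by omega⟩ < r := by
    rw [← hs]
    exact s.strictMono (Fin.lt_def.2 (by simp only [Fin.val_last]; omega))
  exact hqr.2 hqm hmr

theorem exists_reduced [IsLocalRing R] [IsIntegrallyClosed R] (hdim : ringKrullDim R = 2)
    (s : Finset (Ideal R)) (hs : ∀ p ∈ s, p.IsPrime ∧ p.height = 1) :
    ∃ f : R, f ≠ 0 ∧ (∀ p ∈ s, f ∈ p) ∧ IsReduced (R ⧸ Ideal.span {f}) := by
  obtain ⟨f, hf, hf0, hred⟩ := ReducedDivLib.exists_reduced_principal (isCatenary_of_dim_le_two hdim.le) (s.inf id)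
    (by
      intro x ⟨n, hn⟩
      rw [Submodule.mem_finsetInf] at hn ⊢
      exact fun p hp => (hs p hp).1.mem_of_pow_mem n (hn p hp))
    (by
      induction s using Finset.induction with
      | empty => rw [Finset.inf_empty]; exact top_ne_bot
      | insert p t hpt ih =>
        rw [Finset.inf_insert]
        intro h0
        have hmul : p * t.inf id ≤ (⊥ : Ideal R) := Ideal.mul_le_inf.trans (le_of_eq h0)
        rcases Ideal.mul_eq_bot.1 (le_bot_iff.1 hmul) with h | h
        · exact Ideal.ne_bot_of_height_eq_one (hs p (Finset.mem_insert_self p t)).2 h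
        · exact ih (fun q hq => hs q (Finset.mem_insert_of_mem hq)) h)
  exact ⟨f, hf0, fun p hp => (Submodule.mem_finsetInf.1 hf p hp), hred⟩

end ReducedDivTwoLib
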